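import Groth.Agent.QCoh.RpushStalk
import Groth.Agent.AmpleVan.Uniform
import Groth.Agent.KFlatLib.Scheme.QCohTensor
import Groth.Agent.PnCoh.TwistQCoh
import Groth.Prelude.Def_Curv2

/-!
# Cohomology and Euler characteristic under an extension of the ground field
-/

set_option linter.style.haveILetI false
set_option backward.isDefEq.respectTransparency false
set_option backward.isDefEq.respectTransparency.types false
set_option autoImplicit false

universe u

open CategoryTheory CategoryTheory.Limits AlgebraicGeometry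
open scoped TensorProduct

namespace Groth.Agent.CohBasic

open Groth.Agent

variable (k : Type u) [Field k] (X : Scheme.{u}) [X.Over (Spec (CommRingCat.of k))]
  [IsProper (X ↘ (Spec (CommRingCat.of k)))] (k' : Type u) [Field k'] [Algebra k k']

theorem nonempty_HH_bc {F : X.Modules} (hF : Coh.IsQCoh F) (i : ℕ) :
    letI : (Curv2.bc k X k').Over (Spec (CommRingCat.of k')) := ⟨Curv2.bcSnd k X k'⟩
    Nonempty (Coh.HH (Curv2.bc k X k') ((Scheme.Modules.pullback (Curv2.bcFst k X k')).obj F) i ≃ₗ[k']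
      k' ⊗[k] Coh.HH X F i) := by
  letI : (Curv2.bc k X k').Over (Spec (CommRingCat.of k')) := ⟨Curv2.bcSnd k X k'⟩
  haveI := AmpleVan.compactSpace_of_proper (A := k) (X := X)
  haveI := AmpleVan.isSeparated_of_proper (A := k) (X := X)
  exact QCoh.nonempty_HH_flat_bc (Curv2.bcFst k X k') (IsPullback.of_hasPullback _ _) hF i

theorem finrank_HH_bc {F : X.Modules} (hF : Coh.IsQCoh F) (i : ℕ) :
    letI : (Curv2.bc k X k').Over (Spec (CommRingCat.of k')) := ⟨Curv2.bcSnd k X k'⟩
    Module.finrank k' (Coh.HH (Curv2.bc k X k') ((Scheme.Modules.pullback (Curv2.bcFst k X k')).obj F) i) =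
      Module.finrank k (Coh.HH X F i) := by
  obtain ⟨e⟩ := nonempty_HH_bc k X k' hF i
  rw [e.finrank_eq, Module.finrank_baseChange]

theorem euler_bc {F : X.Modules} (hF : Coh.IsQCoh F) :
    @Curv2.euler k' _ (Curv2.bc k X k') ⟨Curv2.bcSnd k X k'⟩
      ((Scheme.Modules.pullback (Curv2.bcFst k X k')).obj F) = Curv2.euler k X F :=
  finsum_congr fun i => by rw [finrank_HH_bc k X k' hF i]

theorem subsingleton_HH_bc_iff {F : X.Modules} (hF : Coh.IsQCoh F) (i : ℕ) :
    Subsingleton (Coh.HH (Curv2.bc k X k') ((Scheme.Modules.pullback (Curv2.bcFst k X k')).obj F) i) ↔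
      Subsingleton (Coh.HH X F i) := by
  obtain ⟨e⟩ := nonempty_HH_bc k X k' hF i
  rw [e.toEquiv.subsingleton_congr]
  exact Module.FaithfullyFlat.subsingleton_tensorProduct_iff_right k k'

theorem isQCoh_tensorMod {Y : Scheme.{u}} {M N : Y.Modules} (hM : Coh.IsQCoh M) (hN : Coh.IsQCoh N) :
    Coh.IsQCoh (CohB1.tensorMod M N) :=
  KFlatLib.isQCoh_tensor hM hN

theorem isQCoh_twistProjSpace (n : ℕ) (R : Type u) [CommRing R] (d : ℤ) :
    Coh.IsQCoh (Twist.twistProjSpace n R d) :=
  PnCoh.isQCoh_twist_mvPolynomial (Fin (n + 1)) R d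

theorem isQCoh_tensor_twistProjSpace (n : ℕ) (R : Type u) [CommRing R] {F : (CohB1.ProjSpace n R).Modules}
    (hF : Coh.IsQCoh F) (d : ℤ) : Coh.IsQCoh (CohB1.tensorMod F (Twist.twistProjSpace n R d)) :=
  isQCoh_tensorMod hF (isQCoh_twistProjSpace n R d)

end Groth.Agent.CohBasic
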