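import Groth.Agent.QCoh.RpushAbGod
import Groth.Agent.QCoh.RpushModel
import Groth.Agent.QCoh.Support

/-!
# Vanishing of higher direct images from vanishing over an affine cover of the base
-/

set_option linter.style.haveILetI false
set_option backward.isDefEq.respectTransparency false
set_option backward.isDefEq.respectTransparency.types false
set_option autoImplicit false

universe u

open CategoryTheory CategoryTheory.Limits AlgebraicGeometry TopologicalSpace Opposite

namespace Groth.Agent.CohBasic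

open Groth.Agent.QCoh

variable {X Y : Scheme.{u}}

theorem subsingleton_rpushModel_sections (f : X ⟶ Y) [QuasiCompact f] [QuasiSeparated f] {M : X.Modules}
    (hM : Coh.IsQCoh M) (q : ℕ) {V : Y.Opens} (hV : IsAffineOpen V)
    (h : Subsingleton (Coh.HH ((f ⁻¹ᵁ V : X.Opens) : Scheme.{u}) (M.restrict (f ⁻¹ᵁ V).ι) (q + 1))) :
    Subsingleton Γ(rpushModel f M q, V) := by
  have hq := locRange_rpushModel f hM q
  refine subsingleton_of_forall_eq 0 fun y => ?_
  letI := modHH (rhoV f V) (M.restrict (f ⁻¹ᵁ V).ι) (q + 1)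
  obtain ⟨θ, -, hker⟩ := exists_theta f M V (q + 1)
  obtain ⟨z, rfl⟩ := hq.surjective hV y
  obtain ⟨b, hb⟩ := (hker z).1 (h.elim _ _)
  rw [← hb]
  exact cokernel_π_app_app (α := (Scheme.Modules.pushforward f).map (godπ M q)) (U := V) b

theorem isZero_RpushAb_of_HH (f : X ⟶ Y) [QuasiCompact f] [QuasiSeparated f] {M : X.Modules}
    (hM : Coh.IsQCoh M) (q : ℕ) {ι : Type*} (V : ι → Y.Opens) (hV : ∀ i, IsAffineOpen (V i))
    (hcov : ∀ y : Y, ∃ i, y ∈ V i)
    (h : ∀ i, Subsingleton (Coh.HH ((f ⁻¹ᵁ V i : X.Opens) : Scheme.{u}) (M.restrict (f ⁻¹ᵁ V i).ι) (q + 1))) :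
    IsZero ((Coh.RpushAb f (q + 1)).obj (Coh.toAb M)) := by
  obtain ⟨e⟩ := nonempty_RpushAb_iso f M q
  have hq := locRange_rpushModel f hM q
  have hz : IsZero (rpushModel f M q) := isZero_of_cover hq.isQCoh V hV hcov fun i =>
    subsingleton_rpushModel_sections f hM q (hV i) (h i)
  exact (Functor.map_isZero (toAbFunctor Y) hz).of_iso e

theorem isZero_stalk_RpushAb_of_HH (f : X ⟶ Y) [QuasiCompact f] [QuasiSeparated f] {M : X.Modules}
    (hM : Coh.IsQCoh M) (q : ℕ) (y : Y) {V : Y.Opens} (hV : IsAffineOpen V) (hy : y ∈ V)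
    (h : Subsingleton (Coh.HH ((f ⁻¹ᵁ V : X.Opens) : Scheme.{u}) (M.restrict (f ⁻¹ᵁ V).ι) (q + 1))) :
    IsZero (TopCat.Presheaf.stalk ((Coh.RpushAb f (q + 1)).obj (Coh.toAb M)).obj y) := by
  obtain ⟨e⟩ := nonempty_RpushAb_iso f M q
  haveI : Subsingleton ((rpushModel f M q).presheaf.stalk y) :=
    (subsingleton_stalk_iff (locRange_rpushModel f hM q).isQCoh hV hy).2 fun m => ⟨1,
      (Y.mem_basicOpen _ y hy).2 (by rw [map_one]; exact isUnit_one),
      (subsingleton_rpushModel_sections f hM q hV h).elim _ _⟩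
  have h0 : IsZero ((rpushModel f M q).presheaf.stalk y) := AddCommGrpCat.isZero_of_subsingleton _
  exact h0.of_iso ((TopCat.Presheaf.stalkFunctor AddCommGrpCat.{u} y).mapIso ((sheafToPresheaf _ _).mapIso e))

end Groth.Agent.CohBasic
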