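import Groth.Agent.Snapper.Multi
import Groth.Agent.ParShLib.ResStalk
import Mathlib.Algebra.MvPolynomial.Funext

/-!
# Integrality of the coefficient of `n₁ ⋯ n_d` of a polynomial of degree at most `d`
-/

set_option linter.style.haveILetI false
set_option autoImplicit false

universe u

open MvPolynomial

namespace Groth.Agent.CohBasic

/-- An alternating sum of values computes the coefficient of the product of all variables. -/
theorem alt_sum_eval {d : ℕ} (P : MvPolynomial (Fin d) ℚ) (hP : P.totalDegree ≤ d) :
    ∑ S ∈ (Finset.univ : Finset (Fin d)).powerset,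
        (-1 : ℚ) ^ (Finset.univ \ S).card * eval (fun i => if i ∈ S then 1 else 0) P =
      coeff (Finsupp.equivFunOnFinite.symm fun _ : Fin d => 1) P := by
  classical
  let one : Fin d →₀ ℕ := Finsupp.equivFunOnFinite.symm fun _ : Fin d => 1
  have hmono : ∀ e : Fin d →₀ ℕ,
      ∑ S ∈ (Finset.univ : Finset (Fin d)).powerset,
        (-1 : ℚ) ^ (Finset.univ \ S).card * ∏ i, (if i ∈ S then 1 else 0 : ℚ) ^ e i =
      ∏ i, (if e i = 0 then 0 else 1 : ℚ) := fun e => by
    have h := Finset.prod_add (fun i : Fin d => (1 : ℚ) ^ e i) (fun i => -(0 : ℚ) ^ e i) Finset.univ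
    refine Eq.trans (Finset.sum_congr rfl fun S _ => ?_) (h.symm.trans (Finset.prod_congr rfl fun i _ => ?_))
    · rw [← Finset.prod_sdiff (Finset.subset_univ S), ← Finset.prod_const, ← mul_assoc, ← Finset.prod_mul_distrib,
        mul_comm]
      refine congrArg₂ (· * ·) (Finset.prod_congr rfl fun i hi => by rw [if_pos hi])
        (Finset.prod_congr rfl fun i hi => ?_)
      rw [if_neg (Finset.mem_sdiff.1 hi).2, neg_one_mul]
    · by_cases hi : e i = 0 <;> simp [hi]
  simp only [eval_eq']
  simp only [Finset.mul_sum]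
  rw [Finset.sum_comm]
  rw [Finset.sum_eq_single one]
  · simp only [mul_left_comm _ (coeff one P), ← Finset.mul_sum, hmono]
    simp [one]
  · intro e he hne
    simp only [mul_left_comm _ (coeff e P), ← Finset.mul_sum, hmono]
    refine mul_eq_zero_of_right _ ?_
    by_contra h0
    have hpos : ∀ i, 1 ≤ e i := fun i => Nat.one_le_iff_ne_zero.2 fun hi =>
      h0 (Finset.prod_eq_zero (Finset.mem_univ i) (by simp [hi]))
    refine hne (Finsupp.ext fun i => ?_)
    have hsum : ∑ i, e i ≤ d := by
      refine le_trans (le_of_eq ?_) ((le_totalDegree he).trans hP)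
      rw [Finsupp.sum_fintype _ _ fun _ => rfl]
    have heq : ∑ _i : Fin d, 1 = ∑ i, e i := le_antisymm (Finset.sum_le_sum fun i _ => hpos i) (by simpa using hsum)
    exact ((Finset.sum_eq_sum_iff_of_le fun i _ => hpos i).1 heq i (Finset.mem_univ i)).symm
  · intro h
    simp [notMem_support_iff.1 h]

end Groth.Agent.CohBasic
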