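import Groth.Agent.AmpleVan.Kill

/-!
# Acyclic embeddings on schemes with affine intersections of affine opens
-/

set_option linter.style.haveILetI false
set_option backward.isDefEq.respectTransparency false
set_option backward.isDefEq.respectTransparency.types false
set_option autoImplicit false

universe u

open CategoryTheory CategoryTheory.Limits AlgebraicGeometry TopologicalSpace Opposite
open CategoryTheory.Abelian

attribute [local instance] HasDerivedCategory.standard
attribute [local instance] Groth.Agent.QCoh.hasFiniteBiproducts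

noncomputable section

namespace Groth.Agent.CohBasic

open Groth.Agent

variable {X : Scheme.{u}}

/-- A quasi-coherent module embeds into an acyclic one. -/
theorem exists_mono_acyclic' [CompactSpace X]
    (hd : ∀ V W : X.Opens, IsAffineOpen V → IsAffineOpen W → IsAffineOpen (V ⊓ W)) {M : X.Modules} (hM : Coh.IsQCoh M) :
    ∃ (E : X.Modules) (f : M ⟶ E), Mono f ∧ Coh.IsQCoh E ∧ ∀ q, Subsingleton (Coh.HH X E (q + 1)) := by
  obtain ⟨s, hs, hcov⟩ := isCompact_iff_finite_and_eq_biUnion_affineOpens.mp
    (show IsCompact ((⊤ : X.Opens) : Set X) by simpa using isCompact_univ)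
  haveI := hs.to_subtype
  haveI := Fintype.ofFinite s
  have hcov' : ∀ x : X, ∃ i : s, x ∈ i.1.1 := fun x => by
    have hx : x ∈ (⊤ : X.Opens) := trivial
    rw [hcov] at hx
    obtain ⟨V, hV, hxV⟩ := by simpa only [Opens.mem_iSup, exists_prop] using hx
    exact ⟨⟨V, hV⟩, hxV⟩
  haveI : ∀ i : s, IsAffineHom i.1.1.ι := fun i =>
    ⟨fun V hV => by
      rw [← i.1.1.ι.isAffineOpen_iff_of_isOpenImmersion, Scheme.Hom.image_preimage_eq_opensRange_inf,
        Scheme.Opens.opensRange_ι]
      exact hd _ _ i.1.2 hV⟩
  let T : s → X.Modules := fun i => (Scheme.Modules.pushforward i.1.1.ι).obj (M.restrict i.1.1.ι)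
  refine ⟨⨁ T, biproduct.lift fun i => (Scheme.Modules.restrictAdjunction i.1.1.ι).unit.app M, ?_,
    QCoh.isQCoh_biproduct T fun i => QCoh.isQCoh_pushforward _ (QCoh.isQCoh_restrict _ hM), fun q => ?_⟩
  · refine Preadditive.mono_of_cancel_zero _ fun {Z} g hg => ?_
    refine H23.ModLoc.hom_ext_of_locally g 0 fun x => ?_
    obtain ⟨i, hi⟩ := hcov' x
    refine ⟨i.1.1, hi, ?_⟩
    let adj := Scheme.Modules.restrictAdjunction i.1.1.ι
    have h : g ≫ adj.unit.app M = 0 := by
      have := congrArg (· ≫ biproduct.π T i) hg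
      rwa [Category.assoc, biproduct.lift_π, zero_comp] at this
    rw [Functor.map_zero]
    have h2 := adj.left_triangle_components M
    rw [← Category.comp_id ((Scheme.Modules.restrictFunctor i.1.1.ι).map g)]
    refine (congrArg ((Scheme.Modules.restrictFunctor i.1.1.ι).map g ≫ ·) h2.symm).trans ?_
    rw [← Category.assoc, ← Functor.map_comp, h, Functor.map_zero, zero_comp]
  · refine PnCoh.Finite.subsingleton_HH_of_decomposition T (fun i => biproduct.π T i)
      (fun i => biproduct.ι T i) (QCoh.biproduct_total' T) (q + 1) fun i => ?_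
    obtain ⟨e⟩ := QCoh.HH_push_of_isAffineHom i.1.1.ι (QCoh.isQCoh_restrict i.1.1.ι hM) (q + 1)
    have h : Subsingleton (Coh.HH i.1.1.toScheme (M.restrict i.1.1.ι) (q + 1)) :=
      QCoh.subsingleton_HH_restrict _ M q (by
        rw [Scheme.Opens.opensRange_ι]
        exact QCoh.subsingleton_HU_of_isAffineOpen hM i.1.2 q)
    exact e.symm.toEquiv.subsingleton

end Groth.Agent.CohBasic
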