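import Groth.Agent.CohBasic.TorsionBC
import Groth.Agent.CohBasic.RpushAbZero
import Groth.Agent.QCoh.CechComparison
import Groth.Agent.QCoh.RpushProper
import Groth.Agent.PnCoh.TwistQCoh
import Groth.Agent.Lib.PnDualCoh
import Groth.Agent.PnCoh.Chow.Proper
import Groth.Agent.AmpleVan.Uniform
import Groth.Agent.S0843
import Groth.Agent.S0844
import Groth.Agent.S0845

/-!
# Higher direct images of twisting sheaves on projective space over a scheme
-/

set_option linter.style.haveILetI false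
set_option backward.isDefEq.respectTransparency false
set_option backward.isDefEq.respectTransparency.types false
set_option autoImplicit false

universe u

open CategoryTheory CategoryTheory.Limits AlgebraicGeometry TopologicalSpace Opposite

attribute [-instance] ULift.module ULift.smulLeft ULift.mulAction ULift.smulZeroClass ULift.distribSMul
  ULift.distribMulAction ULift.smulWithZero ULift.mulActionWithZero

noncomputable section

namespace Groth.Agent.CohBasic

open Groth.Agent.QCoh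

local notation "Pℤ" r => CohB1.ProjSpace r Zu

variable (r : ℕ) (d : ℤ)

instance : IsProper (CohB1.ProjSpace.toSpec r Zu.{u}) := PnCoh.Chow.isProper_toSpec r Zu.{u}

instance : Scheme.IsSeparated (CohB1.ProjSpace r Zu.{u}) :=
  haveI : IsProper ((CohB1.ProjSpace r Zu.{u}) ↘ Spec (CommRingCat.of Zu.{u})) :=
    PnCoh.Chow.isProper_toSpec r Zu.{u}
  AmpleVan.isSeparated_of_proper (A := Zu.{u})

theorem loc_tf (x : ProjectiveSpectrum (CohB1.polyGrading r Zu.{u})) (n : ℤ) (hn : n ≠ 0)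
    (q : Twist.Loc (CohB1.polyGrading r Zu.{u}) x) (h : n • q = 0) : q = 0 := by
  haveI : IsDomain (Twist.Loc (CohB1.polyGrading r Zu.{u}) x) :=
    IsLocalization.isDomain_localization (Ideal.primeCompl_le_nonZeroDivisors _)
  rw [zsmul_eq_mul] at h
  refine (mul_eq_zero.1 h).resolve_left fun h' => hn ?_
  have key : algebraMap (MvPolynomial (Fin (r + 1)) Zu.{u}) (Twist.Loc (CohB1.polyGrading r Zu.{u}) x)
      (n : MvPolynomial (Fin (r + 1)) Zu.{u}) = 0 := by
    rw [map_intCast]; exact h'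
  have h'' := congrArg MvPolynomial.constantCoeff
    ((IsLocalization.to_map_eq_zero_iff (R := MvPolynomial (Fin (r + 1)) Zu.{u}) (M := x.asHomogeneousIdeal.toIdeal.primeCompl)
      (Twist.Loc (CohB1.polyGrading r Zu.{u}) x) (Ideal.primeCompl_le_nonZeroDivisors _)).1 key)
  rw [map_intCast, map_zero] at h''
  exact congrArg ULift.down h''

theorem sections_tf (U : (Pℤ r).Opens) (n : ℤ) (hn : n ≠ 0)
    (s : Γ(Twist.twistProjSpace r Zu.{u} d, U)) (h : n • s = 0) : s = 0 := by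
  refine Subtype.ext (funext fun x => Subtype.ext ?_)
  exact loc_tf r x.1 n hn _ (congrArg (fun t : Twist.sectN d (op U) => ((t.1 x).1)) h)

theorem down_smul {M : Type u} [AddCommGroup M] [Module Zu.{u} M] (a : Zu.{u}) (m : M) :
    a • m = a.down • m := by
  conv_lhs => rw [show a = ((a.down : ℤ) : Zu.{u}) from ULift.ext _ _ rfl]
  exact Int.cast_smul_eq_zsmul _ a.down m

theorem down_ne {a : Zu.{u}} (h : a ≠ 0) : a.down ≠ 0 := fun h' => h (ULift.ext _ _ h')

theorem homogeneous_tf (k : ℕ) {M : Type u} [AddCommGroup M] [Module Zu.{u} M]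
    (e : M ≃ₗ[Zu.{u}] MvPolynomial.homogeneousSubmodule (Fin (r + 1)) Zu.{u} k) (a : Zu.{u}) (m : M)
    (h : a • m = 0) : a = 0 ∨ m = 0 := by
  refine or_iff_not_imp_left.2 fun ha => e.injective ?_
  have h' : a • (e m).1 = 0 := by
    rw [← Submodule.coe_smul, ← map_smul, h, map_zero]; rfl
  rw [map_zero]
  exact Subtype.ext ((smul_eq_zero.1 h').resolve_left ha)

theorem HH_tf (q : ℕ) (a : Zu.{u}) (m : Coh.HH (Pℤ r) (Twist.twistProjSpace r Zu.{u} d) q)
    (h : a • m = 0) : a = 0 ∨ m = 0 := by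
  by_cases h₀ : q = 0 ∧ 0 ≤ d
  · obtain ⟨rfl, hd⟩ := h₀
    obtain ⟨k, rfl⟩ := Int.eq_ofNat_of_zero_le hd
    obtain ⟨e⟩ := S0843.result Zu.{u} r k
    exact homogeneous_tf r k e a m h
  by_cases hn : q = r ∧ d ≤ -((r : ℤ) + 1)
  · obtain ⟨hq, hd⟩ := hn
    obtain ⟨k, hk⟩ : ∃ k : ℕ, d = -((r : ℤ) + 1 + k) := ⟨(-d - ((r : ℤ) + 1)).toNat, by omega⟩
    subst hk hq
    obtain ⟨e⟩ := S0845.result Zu.{u} _ k
    exact homogeneous_tf _ k e a m h
  haveI := S0844.result Zu.{u} r d q h₀ hn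
  exact Or.inr (Subsingleton.elim _ _)

theorem subsingleton_HH_bc {B : Type u} [CommRing B] (φ : Zu.{u} →+* B) {X' : Scheme.{u}}
    [X'.Over (Spec (CommRingCat.of B))] (g : X' ⟶ Pℤ r)
    (h : IsPullback g (X' ↘ Spec (CommRingCat.of B)) ((Pℤ r) ↘ Spec (CommRingCat.of Zu.{u}))
      (Spec.map (CommRingCat.ofHom φ))) (p : ℕ)
    (h0 : Subsingleton (Coh.HH (Pℤ r) (Twist.twistProjSpace r Zu.{u} d) p)) :
    Subsingleton (Coh.HH X' ((Scheme.Modules.pullback g).obj (Twist.twistProjSpace r Zu.{u} d)) p) := by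
  let F := Twist.twistProjSpace r Zu.{u} d
  have hF : Coh.IsQCoh F := PnCoh.isQCoh_twist_mvPolynomial _ Zu.{u} d
  let U : ULift.{u} (Fin (r + 1)) → (Pℤ r).Opens := fun j => PnCoh.mOpen Zu.{u} (Finsupp.single j.down 1)
  have hcov : ⨆ i, U i = ⊤ := top_le_iff.1 ((PnCoh.iSup_mOpen_single (ι := Fin (r + 1)) (R := Zu.{u})).ge.trans
    (iSup_le fun j => le_iSup_of_le (ULift.up j) le_rfl))
  have hU : ∀ {q : ℕ} (σ : Fin (q + 1) → ULift.{u} (Fin (r + 1))), IsAffineOpen (⨅ a, U (σ a)) := fun σ =>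
    IsAffineOpen.iInf fun a => PnCoh.isAffineOpen_mOpen (Finsupp.single_ne_zero.2 one_ne_zero)
  obtain ⟨ψ⟩ := nonempty_cechA_bc_iso φ g h hF U hU
  have hcov' : ⨆ i, g ⁻¹ᵁ U i = ⊤ := by rw [← Scheme.Hom.preimage_iSup, hcov]; rfl
  obtain ⟨e'⟩ := cxMod_homology_equiv (Coh.toGlobal (X' ↘ Spec (CommRingCat.of B))) (fun i => g ⁻¹ᵁ U i) hcov'
    (fun σ => QCoh.isAffineOpen_preimage φ g h U hU σ) (isQCoh_pullback g hF) p
  let ρ := Coh.toGlobal (A := Zu.{u}) ((Pℤ r) ↘ Spec (CommRingCat.of Zu.{u}))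
  have htf : ∀ (i : ℕ) (a : Zu.{u}) (m : (cechA (A := Zu.{u}) F U).X i), a • m = 0 → a = 0 ∨ m = 0 := by
    intro i a m ham
    refine or_iff_not_imp_left.2 fun ha => ?_
    rw [down_smul] at ham
    refine Subtype.ext (funext₂ fun σ W => ?_)
    exact sections_tf r d W.1 a.down (down_ne ha) _ (congrArg (fun t : (cechA (A := Zu.{u}) F U).X i => t.1 σ W) ham)
  obtain ⟨e₀⟩ := cxMod_homology_equiv ρ U hcov hU hF p
  obtain ⟨e₁⟩ := cxMod_homology_equiv ρ U hcov hU hF (p + 1)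
  haveI := h0
  haveI : Subsingleton ((cechA (A := Zu.{u}) F U).homology p : ModuleCat.{u} Zu.{u}) := e₀.toEquiv.subsingleton
  have hz := isZero_homology_bc φ (cechA (A := Zu.{u}) F U) p htf (ModuleCat.isZero_of_subsingleton _)
    fun a m ham => by
      refine (HH_tf r d (p + 1) a (e₁ m) ?_).imp_right fun hm => e₁.injective (by rw [hm, map_zero])
      have := congrArg e₁ ham
      rwa [map_smul, map_zero] at this
  haveI := ModuleCat.subsingleton_of_isZero (hz.of_iso ((HomologicalComplex.homologyFunctor _ _ p).mapIso ψ).symm)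
  exact @Equiv.subsingleton _ _ e'.toEquiv.symm (ModuleCat.subsingleton_of_isZero (hz.of_iso ((HomologicalComplex.homologyFunctor _ _ p).mapIso ψ).symm))

theorem exists_pullback_square {Y : Scheme.{u}} {V : Y.Opens} (hV : IsAffineOpen V) :
    let U := CohB1.ProjSpaceOver.toBase r Y ⁻¹ᵁ V
    letI : (U : Scheme.{u}).Over (Spec (CommRingCat.of Γ(Y, V))) :=
      ⟨overSpec (CohB1.ProjSpaceOver.toBase r Y) hV⟩
    IsPullback (U.ι ≫ pullback.fst _ _) ((U : Scheme.{u}) ↘ Spec (CommRingCat.of Γ(Y, V)))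
      ((Pℤ r) ↘ Spec (CommRingCat.of Zu.{u}))
      (Spec.map (CommRingCat.ofHom ((Int.castRingHom Γ(Y, V)).comp (ULift.ringEquiv (R := ℤ)).toRingHom))) := by
  intro U
  have h := (isPullback_overSpec (f := CohB1.ProjSpaceOver.toBase r Y) hV).paste_horiz
    (IsPullback.of_hasPullback (CohB1.ProjSpace.toSpec r Zu.{u}) (specULiftZIsTerminal.from Y))
  rw [specULiftZIsTerminal.hom_ext (hV.fromSpec ≫ specULiftZIsTerminal.from Y)
    (Spec.map (CommRingCat.ofHom ((Int.castRingHom Γ(Y, V)).comp (ULift.ringEquiv (R := ℤ)).toRingHom)))] at h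
  exact h

theorem isZero_RpushAb_twistOver (Y : Scheme.{u}) (i : ℕ)
    (h : ¬ ((i = 0 ∧ 0 ≤ d) ∨ (i = r ∧ d ≤ -((r : ℤ) + 1)))) :
    IsZero ((Coh.RpushAb (CohB1.ProjSpaceOver.toBase r Y) i).obj (Coh.toAb (Twist.twistOver r Y d))) := by
  let f := CohB1.ProjSpaceOver.toBase r Y
  have hM : Coh.IsQCoh (Twist.twistOver r Y d) :=
    isQCoh_pullback _ (PnCoh.isQCoh_twist_mvPolynomial _ Zu.{u} d)
  haveI : QuasiCompact f := MorphismProperty.pullback_snd (P := @QuasiCompact) _ _ inferInstance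
  haveI : QuasiSeparated f := MorphismProperty.pullback_snd (P := @QuasiSeparated) _ _ inferInstance
  have hcov : ∀ y : Y, ∃ V : Y.affineOpens, y ∈ V.1 := fun y => by
    obtain ⟨_, ⟨V, hV, rfl⟩, hy, -⟩ := Y.isBasis_affineOpens.exists_subset_of_mem_open (Set.mem_univ y) isOpen_univ
    exact ⟨⟨V, hV⟩, hy⟩
  have key : ∀ V : Y.affineOpens,
      Subsingleton (Coh.HH ((f ⁻¹ᵁ V.1 : (CohB1.ProjSpaceOver r Y).Opens) : Scheme.{u})
        ((Twist.twistOver r Y d).restrict (f ⁻¹ᵁ V.1).ι) i) := fun V => by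
    letI : ((f ⁻¹ᵁ V.1 : (CohB1.ProjSpaceOver r Y).Opens) : Scheme.{u}).Over (Spec (CommRingCat.of Γ(Y, V.1))) :=
      ⟨overSpec f V.2⟩
    have hs := subsingleton_HH_bc r d _ _ (exists_pullback_square r V.2) i
      (S0844.result Zu.{u} r d i (fun c => h (Or.inl c)) (fun c => h (Or.inr c)))
    let e : (Twist.twistOver r Y d).restrict (f ⁻¹ᵁ V.1).ι ≅ _ :=
      (Scheme.Modules.restrictFunctorIsoPullback (f ⁻¹ᵁ V.1).ι).app _ ≪≫
        (Scheme.Modules.pullbackComp (f ⁻¹ᵁ V.1).ι (pullback.fst _ _)).app (Twist.twistProjSpace r Zu.{u} d)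
    exact (HHcongr (Coh.toGlobal (A := Γ(Y, V.1)) (((f ⁻¹ᵁ V.1 : (CohB1.ProjSpaceOver r Y).Opens) : Scheme.{u}) ↘
      Spec (CommRingCat.of Γ(Y, V.1)))) e i).toEquiv.subsingleton
  cases i with
  | succ q => exact isZero_RpushAb_of_HH f hM q (fun V : Y.affineOpens => V.1) (fun V => V.2) hcov key
  | zero =>
    obtain ⟨e⟩ := nonempty_RpushAb_zero_iso f (Twist.twistOver r Y d)
    refine (Functor.map_isZero (toAbFunctor Y) ?_).of_iso e
    refine isZero_of_cover (isQCoh_pushforward f hM) (fun V : Y.affineOpens => V.1) (fun V => V.2) hcov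
      fun V => subsingleton_of_forall_eq 0 fun y => ?_
    letI := modHH (rhoV f V.1) ((Twist.twistOver r Y d).restrict (f ⁻¹ᵁ V.1).ι) 0
    obtain ⟨θ, -, hker⟩ := exists_theta f (Twist.twistOver r Y d) V.1 0
    exact (hker y).1 ((key V).elim _ _)

end Groth.Agent.CohBasic
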