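import Groth.Agent.RelTildeX.SheafCrit
import Groth.Agent.QCoh.Serre
import Groth.Agent.QCoh.Support
import Groth.Agent.ParaFX.Closed
import Groth.Agent.QCoh.Qcqs

/-!
# Direct image of a coherent module whose support is closed in the ambient scheme
-/

set_option autoImplicit false

universe u

open CategoryTheory CategoryTheory.Limits AlgebraicGeometry TopologicalSpace Opposite

namespace Groth.Agent.CohBasic

open Groth.Agent.QCoh

variable {X Z : Scheme.{u}}

theorem subsingleton_sections_of_stalks {M : X.Modules} (V : X.Opens)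
    (h : ∀ x ∈ V, Subsingleton (M.presheaf.stalk x)) : Subsingleton Γ(M, V) := by
  refine subsingleton_of_forall_eq 0 fun s => ?_
  refine TopCat.Presheaf.section_ext (F := (⟨M.presheaf, M.isSheaf⟩ : TopCat.Sheaf Ab.{u} X)) V s 0 fun x hx => ?_
  exact (h x hx).elim _ _

theorem isCoh_of_iso' {M N : X.Modules} (e : M ≅ N) (h : Coh.IsCoh M) : Coh.IsCoh N := by
  have hN := (isQCoh_iff_iso e).1 h.1
  refine ⟨hN, (isFT_iff hN).2 fun V => ?_⟩
  haveI := (isFT_iff h.1).1 h.2 V
  refine Module.Finite.of_surjective (appLin e.hom V.1) fun y => ⟨e.inv.app V.1 y, ?_⟩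
  exact congrArg (fun φ : N ⟶ N => φ.app V.1 y) e.inv_hom_id

theorem isCoh_of_sections {M : X.Modules} (h : ∀ V : X.Opens, Subsingleton Γ(M, V)) : Coh.IsCoh M := by
  have hq : Coh.IsQCoh M := isQCoh_of_sections (fun V _ f s => ⟨0, 0, (h _).elim _ _⟩)
    (fun V _ f t _ => ⟨0, (h _).elim _ _⟩)
  exact ⟨hq, (isFT_iff hq).2 fun V => haveI := h V.1; inferInstance⟩

theorem isCoh_push_of_support (U : X.Opens) (T : Set X) (hT : IsClosed T) (hTU : T ⊆ (U : Set X))
    (F : (U : Scheme.{u}).Modules) (hF : Coh.IsCoh F)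
    (hs : ∀ x : U, x ∈ CohB1.support F → (x : X) ∈ T) : Coh.IsCoh ((Coh.push U.ι).obj F) := by
  let W : X.Opens := ⟨Tᶜ, hT.isOpen_compl⟩
  let O : ULift.{u} Bool → X.Opens := fun b => if b.down then U else W
  have hO : IsOpenCover O := top_le_iff.1 fun x _ => Opens.mem_iSup.2 <| by
    by_cases hx : x ∈ (U : Set X)
    · exact ⟨⟨true⟩, hx⟩
    · exact ⟨⟨false⟩, fun h => hx (hTU h)⟩
  have hz : ∀ V : (W : Scheme.{u}).Opens, Subsingleton Γ(((Coh.push U.ι).obj F).restrict W.ι, V) :=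
      fun V => by
    show Subsingleton Γ(F, U.ι ⁻¹ᵁ (W.ι ''ᵁ V))
    refine subsingleton_sections_of_stalks _ fun y hy => ?_
    by_contra hne
    obtain ⟨w, -, hw⟩ := hy
    exact w.2 ((show w.1 = y.1 from hw) ▸ hs y hne)
  have hq : ∀ b, Coh.IsCoh (((Coh.push U.ι).obj F).restrict (O b).ι) := fun ⟨b⟩ => by
    cases b
    · exact isCoh_of_sections hz
    · exact isCoh_of_iso' (ParaFX.restrictPushforward U.ι F).symm hF
  have h1 := isQCoh_of_isOpenCover O hO fun b => (hq b).1
  exact ⟨h1, RelTildeX.isFT_of_openCover (X.openCoverOfIsOpenCover O hO) h1 fun b => (hq b).2⟩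

end Groth.Agent.CohBasic
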