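import Groth.Agent.QCoh.Serre
import Groth.Agent.QCoh.AlgGen
import Groth.Agent.QCoh.GodCx
import Groth.Agent.QCoh.Bound
import Groth.Agent.QCoh.GodLoc

/-!
# First cohomology vanishes if it does on all submodules of finite type
-/

set_option backward.isDefEq.respectTransparency false
set_option backward.isDefEq.respectTransparency.types false
set_option linter.style.haveILetI false
set_option autoImplicit false

universe u

open CategoryTheory CategoryTheory.Limits AlgebraicGeometry TopologicalSpace Opposite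

namespace Groth.Agent.CohBasic

open Groth.Agent.QCoh

variable {X : Scheme.{u}}

theorem subsingleton_HH_one_of_ft [CompactSpace X] [QuasiSeparatedSpace X] {A : X.Modules} (hA : Coh.IsQCoh A)
    (h : ∀ (N : X.Modules) (i : N ⟶ A), Mono i → Coh.IsQCoh N → CohB1.IsFT N → Subsingleton (Coh.HH X N 1)) :
    Subsingleton (Coh.HH X A 1) := by
  refine SiteBase.subsingleton_H_of_HU_terminal isTerminalTop (abSheaf A) 1 ?_
  refine SiteBase.subsingleton_HU_one_X₁ (S := (godSES A 0).map (toAbFunctor X))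
    (toAb_shortExact (godSES_shortExact A 0)) ⊤ (subsingleton_HU_God A ⊤ 0) fun q => ?_
  let q' : Γ(godQ A 1, ⊤) := q
  suffices ∃ e : Γ(God A, ⊤), (godπ A 0).app ⊤ e = q' from this
  obtain ⟨F, hF⟩ := isCompact_univ.elim_finite_subcover (fun V : X.affineOpens => (V.1 : Set X))
    (fun V => V.1.2) fun x _ => by
      obtain ⟨_, ⟨V, hV, rfl⟩, hxV, -⟩ := X.isBasis_affineOpens.exists_subset_of_mem_open
        (Set.mem_univ x) isOpen_univ
      exact Set.mem_iUnion.2 ⟨⟨V, hV⟩, hxV⟩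
  let U : F → X.Opens := fun V => V.1.1
  have hU : ∀ i, IsAffineOpen (U i) := fun V => V.1.2
  have he : ∀ i, ∃ e : Γ(God A, U i), (godπ A 0).app (U i) e = rs (godQ A 1) le_top q' := fun i =>
    godπ_app_surjective (M := A) (n := 0) (subsingleton_HU_of_isAffineOpen hA (hU i) 0) _
  choose e he using he
  have hd : ∀ p : F × F, ∃ a : Γ(A, U p.1 ⊓ U p.2),
      (toGod A).app _ a = rs (God A) inf_le_left (e p.1) - rs (God A) inf_le_right (e p.2) := fun p => by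
    refine exists_of_godπ_app_eq_zero (M := A) 0 _ ?_
    show (godπ A 0).app _ _ = 0
    refine (map_sub _ _ _).trans ?_
    refine (congrArg₂ (· - ·) (app_rs (godπ A 0) (inf_le_left : U p.1 ⊓ U p.2 ≤ U p.1) (e p.1))
      (app_rs (godπ A 0) (inf_le_right : U p.1 ⊓ U p.2 ≤ U p.2) (e p.2))).trans ?_
    rw [he, he, rs_rs, rs_rs, sub_self]
  choose a ha using hd
  have hc : ∀ p : F × F, ∃ G : Finset X.affineOpens, (∀ V ∈ G, V.1 ≤ U p.1 ⊓ U p.2) ∧
      ((U p.1 ⊓ U p.2 : X.Opens) : Set X) ⊆ ⋃ V ∈ G, (V.1 : Set X) := fun p => by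
    have hc : IsCompact ((U p.1 ⊓ U p.2 : X.Opens) : Set X) := QuasiSeparatedSpace.inter_isCompact _ _
      (U p.1).2 (hU p.1).isCompact (U p.2).2 (hU p.2).isCompact
    obtain ⟨G, hG⟩ := hc.elim_finite_subcover
      (fun V : {V : X.affineOpens // V.1 ≤ U p.1 ⊓ U p.2} => (V.1.1 : Set X))
      (fun V => V.1.1.2) fun x hx => by
        obtain ⟨_, ⟨V, hV, rfl⟩, hxV, hle⟩ := X.isBasis_affineOpens.exists_subset_of_mem_open hx
          (U p.1 ⊓ U p.2).2
        exact Set.mem_iUnion.2 ⟨⟨⟨V, hV⟩, hle⟩, hxV⟩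
    classical
    refine ⟨G.image (·.1), fun V hV => ?_, fun x hx => ?_⟩
    · obtain ⟨W, -, rfl⟩ := Finset.mem_image.1 hV
      exact W.2
    · obtain ⟨W, hW, hxW⟩ := Set.mem_iUnion₂.1 (hG hx)
      exact Set.mem_iUnion₂.2 ⟨W.1, Finset.mem_image_of_mem _ hW, hxW⟩
  choose G hGle hG using hc
  have hN : ∀ k : Σ p : F × F, G p, ∃ N : SubMod A, FTOn N ⊤ ∧ rs A (hGle k.1 k.2.1 k.2.2) (a k.1) ∈ N.mem k.2.1.1 :=
    fun k => by
    obtain ⟨N, hN, hT⟩ := exists_ftOn_contains hA k.2.1.2 (extStep_qcqs k.2.1.2.isCompact)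
      {rs A (hGle k.1 k.2.1 k.2.2) (a k.1)} (Set.finite_singleton _)
    exact ⟨N, hN, hT rfl⟩
  choose N hNft hNmem using hN
  let Nt := sumSub N
  have hNt : FTOn Nt ⊤ := ftOn_sumSub N hNft
  let j := Nt.ι ≫ toGod A
  let S : ShortComplex X.Modules := ShortComplex.mk j (cokernel.π j) (cokernel.condition j)
  have hS : S.ShortExact := { exact := ShortComplex.exact_of_g_is_cokernel _ (cokernelIsCokernel j) }
  let sf : ∀ i : F, Γ(S.X₃, U i) := fun i => S.g.app (U i) (e i)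
  have hcomp : TopCat.Presheaf.IsCompatible (X := X.toPresheafedSpace.carrier) S.X₃.presheaf U sf := by
    intro i k
    refine sub_eq_zero.1 ?_
    show rs S.X₃ (inf_le_left : U i ⊓ U k ≤ U i) (S.g.app (U i) (e i)) -
      rs S.X₃ (inf_le_right : U i ⊓ U k ≤ U k) (S.g.app (U k) (e k)) = 0
    rw [← app_rs, ← app_rs, ← map_sub]
    show S.g.app _ (rs (God A) _ (e (i, k).1) - rs (God A) _ (e (i, k).2)) = 0
    rw [← ha (i, k)]
    refine eq_zero_of_locally _ _ fun x hx => ?_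
    obtain ⟨V, hV, hxV⟩ := Set.mem_iUnion₂.1 (hG (i, k) hx)
    refine ⟨V.1, homOfLE (hGle _ V hV), hxV, ?_⟩
    obtain ⟨t, ht⟩ := Nt.exists_app_eq (le_sumSub N ⟨(i, k), ⟨V, hV⟩⟩ _ (hNmem ⟨(i, k), ⟨V, hV⟩⟩))
    show rs S.X₃ (hGle (i, k) V hV) (S.g.app _ ((toGod A).app _ (a (i, k)))) = 0
    rw [← app_rs, ← app_rs, ← ht]
    exact app_g_f (S := S) V.1 t
  obtain ⟨g, hg, -⟩ := TopCat.Sheaf.existsUnique_gluing' (X := X.toPresheafedSpace.carrier)
    (⟨S.X₃.presheaf, S.X₃.isSheaf⟩ : TopCat.Sheaf AddCommGrpCat.{u} X.toPresheafedSpace.carrier)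
    U ⊤ (fun _ => homOfLE le_top) (fun x _ => by
      obtain ⟨V, hV, hxV⟩ := Set.mem_iUnion₂.1 (hF (Set.mem_univ x))
      exact Opens.mem_iSup.2 ⟨⟨V, hV⟩, hxV⟩) sf hcomp
  obtain ⟨e₀, he₀⟩ := app_top_surjective_of_HH_one hS
    (h _ Nt.ι inferInstance (isQCoh_of_ftOn hA hNt) (isFT_of_ftOn hA hNt)) g
  refine ⟨e₀, sub_eq_zero.1 (eq_zero_of_locally _ _ fun x _ => ?_)⟩
  obtain ⟨V, hV, hxV⟩ := Set.mem_iUnion₂.1 (hF (Set.mem_univ x))
  refine ⟨U ⟨V, hV⟩, homOfLE le_top, hxV, ?_⟩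
  obtain ⟨t, ht⟩ := exists_app_f_eq hS (U ⟨V, hV⟩) (rs (God A) le_top e₀ - e ⟨V, hV⟩) (by
    show S.g.app _ _ = 0
    rw [map_sub, app_rs, sub_eq_zero, he₀]
    exact hg ⟨V, hV⟩)
  show rs (godQ A 1) le_top ((godπ A 0).app ⊤ e₀ - q') = 0
  rw [rs_sub, ← app_rs, ← he, ← map_sub]
  exact (congrArg ((godπ A 0).app _) ht.symm).trans (app_g_f (S := godSES A 0) _ (Nt.ι.app _ t))

theorem isAffine_of_HH_one_ft [CompactSpace X] [QuasiSeparatedSpace X]
    (h : ∀ (I : X.Modules) (i : I ⟶ Coh.structureModule X), Mono i → Coh.IsQCoh I → CohB1.IsFT I →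
      Subsingleton (Coh.HH X I 1)) : IsAffine X :=
  isAffine_of_HH_one fun _ i hi hF => subsingleton_HH_one_of_ft hF fun N k hk hN hft =>
    h N (k ≫ i) inferInstance hN hft

end Groth.Agent.CohBasic
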