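import Groth.Agent.QCoh.Serre
import Groth.Agent.H23.DblAlg

/-!
# Affineness from exactness of global sections on submodules of free modules
-/

set_option linter.style.haveILetI false
set_option backward.isDefEq.respectTransparency false
set_option backward.isDefEq.respectTransparency.types false
set_option autoImplicit false

universe u

open CategoryTheory CategoryTheory.Limits AlgebraicGeometry TopologicalSpace Opposite

namespace Groth.Agent.CohBasic

open Groth.Agent.QCoh Groth.Agent.H23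

variable {X : Scheme.{u}}

/-- Global sections are exact on submodules of finite free modules. -/
def SurjSub (X : Scheme.{u}) : Prop :=
  ∀ (n : ℕ) (F F'' : X.Modules) (i : F ⟶ FlatMod.freeMod X n) (p : F ⟶ F''),
    Mono i → Epi p → Coh.IsQCoh F → Coh.IsQCoh F'' → Function.Surjective (p.app ⊤)

theorem surjSub_apply (h : SurjSub X) {n : ℕ} {F F'' : X.Modules} (p : F ⟶ F'') [Epi p]
    (i : F ⟶ FlatMod.freeMod X n) [Mono i] (hF : Coh.IsQCoh F) (hF'' : Coh.IsQCoh F'') (q : Γ(F'', ⊤)) :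
    ∃ e, p.app ⊤ e = q :=
  h n F F'' i p inferInstance inferInstance hF hF'' q

/-- Adding one summand to a free module. -/
noncomputable def consIso {F : X.Modules} {n : ℕ} (e : F ≅ FlatMod.freeMod X n) :
    Coh.structureModule X ⊞ F ≅ FlatMod.freeMod X (n + 1) where
  hom := biprod.desc (Sigma.ι (fun _ : Fin (n + 1) => Coh.structureModule X) 0)
    (e.hom ≫ Sigma.desc fun i => Sigma.ι (fun _ : Fin (n + 1) => Coh.structureModule X) i.succ)
  inv := Sigma.desc fun i => Fin.cases biprod.inl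
    (fun j => Sigma.ι (fun _ : Fin n => Coh.structureModule X) j ≫ e.inv ≫ biprod.inr) i
  hom_inv_id := by
    apply biprod.hom_ext'
    · simp
    · rw [biprod.inr_desc_assoc, Category.comp_id, ← cancel_epi e.inv, Category.assoc, e.inv_hom_id_assoc]
      refine Sigma.hom_ext _ _ fun j => ?_
      simp
  inv_hom_id := by
    refine Sigma.hom_ext _ _ fun i => ?_
    induction i using Fin.cases <;> simp

/-- Every closed point has an affine neighbourhood cut out by a global function. -/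
theorem exists_basicOpen_affine'
    (h : SurjSub X)
    {x : X} (hx : IsClosed ({x} : Set X)) :
    ∃ f : Γ(X, ⊤), x ∈ X.basicOpen f ∧ IsAffineOpen (X.basicOpen f) := by
  obtain ⟨_, ⟨U, hU₀, rfl⟩, hxU, -⟩ :=
    X.isBasis_affineOpens.exists_subset_of_mem_open (Set.mem_univ x) isOpen_univ
  have hU : IsAffineOpen U := hU₀
  let Z : Set X := (U : Set X)ᶜ
  let Z' : Set X := insert x Z
  let j := SubMod.homOfLE (N := vanIdeal Z') (N' := vanIdeal Z)
    (vanIdeal_mono (Set.subset_insert x Z))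
  let S : ShortComplex X.Modules := ShortComplex.mk j (cokernel.π j) (cokernel.condition j)
  have hS : S.ShortExact := { exact := ShortComplex.exact_of_g_is_cokernel _ (cokernelIsCokernel j) }
  let V : X.Opens := ⟨{x}ᶜ, hx.isOpen_compl⟩
  have hone : (show Γ(Coh.structureModule X, U) from (1 : Γ(X, U))) ∈ (vanIdeal Z).mem U :=
    fun z hz hzb => hz (X.basicOpen_le _ hzb)
  obtain ⟨e₁, he₁⟩ := (vanIdeal Z).exists_app_eq hone
  let q₁ : Γ(S.X₃, U) := S.g.app U e₁
  have hcomp : S.X₃.presheaf.map (homOfLE (inf_le_left : U ⊓ V ≤ U)).op q₁ = 0 := by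
    have hone' : (show Γ(Coh.structureModule X, U ⊓ V) from (1 : Γ(X, U ⊓ V))) ∈
        (vanIdeal Z').mem (U ⊓ V) := fun z hz hzb => by
      rcases hz with rfl | hz
      · exact (X.basicOpen_le _ hzb).2 rfl
      · exact hz (X.basicOpen_le _ hzb).1
    obtain ⟨e₂, he₂⟩ := (vanIdeal Z').exists_app_eq hone'
    have : S.X₂.presheaf.map (homOfLE (inf_le_left : U ⊓ V ≤ U)).op e₁ = S.f.app (U ⊓ V) e₂ := by
      refine (vanIdeal Z).ι_app_injective _ ?_
      rw [map_app_comm, he₁]
      exact ((map_one (X.presheaf.map (homOfLE (inf_le_left : U ⊓ V ≤ U)).op).hom).trans he₂.symm :)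
    rw [← map_app_comm, this, app_g_f]
  have hcov : (⊤ : X.Opens) ≤ iSup fun b : ULift.{u} Bool => cond b.down U V := fun z _ => by
    by_cases hz : z = x
    · exact Opens.mem_iSup.2 ⟨⟨true⟩, hz ▸ hxU⟩
    · exact Opens.mem_iSup.2 ⟨⟨false⟩, hz⟩
  have hcompat : TopCat.Presheaf.IsCompatible (X := X.toPresheafedSpace.carrier) S.X₃.presheaf
      (fun b : ULift.{u} Bool => cond b.down U V)
      (fun b => match b with
        | ⟨true⟩ => q₁
        | ⟨false⟩ => (0 : Γ(S.X₃, V))) := by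
    rintro ⟨_ | _⟩ ⟨_ | _⟩
    · rfl
    · refine (map_zero (S.X₃.presheaf.map _).hom).trans ?_
      have h' := congrArg (S.X₃.presheaf.map (homOfLE (le_of_eq (inf_comm V U))).op) hcomp
      rw [map_zero, map_map] at h'
      exact h'.symm
    · exact hcomp.trans (map_zero (S.X₃.presheaf.map _).hom).symm
    · rfl
  obtain ⟨q, hq, -⟩ := TopCat.Sheaf.existsUnique_gluing' (X := X.toPresheafedSpace.carrier)
    (⟨S.X₃.presheaf, S.X₃.isSheaf⟩ : TopCat.Sheaf AddCommGrpCat.{u} X.toPresheafedSpace.carrier)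
    _ ⊤ (fun _ => homOfLE le_top) hcov _ hcompat
  obtain ⟨e, he⟩ := surjSub_apply h S.g ((vanIdeal Z).ι ≫ (Groth.Agent.H23.DblAlg.freeOneIso X).inv)
    (isQCoh_vanIdeal Z) (isQCoh_cokernel (isQCoh_vanIdeal Z') (isQCoh_vanIdeal Z) j) q
  let f : Γ(X, ⊤) := toFn ((vanIdeal Z).ι.app ⊤ e)
  have hfU : X.basicOpen f ≤ U := fun z hz => by
    by_contra hzU
    exact (vanIdeal Z).ι_app_mem ⊤ e z hzU hz
  refine ⟨f, ?_, ?_⟩
  · have hd : S.g.app U (S.X₂.presheaf.map (homOfLE (le_top : U ≤ ⊤)).op e - e₁) = 0 := by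
      rw [map_sub, map_app_comm, he, sub_eq_zero]
      exact hq ⟨true⟩
    obtain ⟨a, ha⟩ := exists_app_f_eq hS U _ hd
    by_contra hxf
    have hxU' : x ∉ X.basicOpen (toFn ((vanIdeal Z').ι.app U a)) :=
      (vanIdeal Z').ι_app_mem U a x (Set.mem_insert x Z)
    rw [show (vanIdeal Z').ι.app U a = (vanIdeal Z).ι.app U (S.f.app U a) from rfl, ha,
      map_sub, map_app_comm, he₁] at hxU'
    have h1 := (notMem_basicOpen_iff _ x hxU).1 hxU'
    rw [show toFn ((Coh.structureModule X).presheaf.map (homOfLE (le_top : U ≤ ⊤)).op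
        ((vanIdeal Z).ι.app ⊤ e) - (show Γ(Coh.structureModule X, U) from (1 : Γ(X, U)))) =
      X.presheaf.map (homOfLE (le_top : U ≤ ⊤)).op f - 1 from rfl, map_sub, map_one] at h1
    have h2 : X.presheaf.germ U x hxU (X.presheaf.map (homOfLE (le_top : U ≤ ⊤)).op f) ∈
        IsLocalRing.maximalIdeal (X.presheaf.stalk x) := by
      refine (notMem_basicOpen_iff _ x hxU).1 ?_
      rw [Scheme.basicOpen_res]
      exact fun hh => hxf hh.2
    exact (IsLocalRing.maximalIdeal.isMaximal (X.presheaf.stalk x)).ne_top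
      ((Ideal.eq_top_iff_one _).2 (by simpa using sub_mem h2 h1))
  · have := Scheme.basicOpen_res X f (homOfLE (le_top : U ≤ ⊤)).op
    rw [inf_eq_right.2 hfU] at this
    rw [← this]
    exact hU.basicOpen _

theorem rowHom_props' (l : List Γ(X, ⊤)) :
    Coh.IsQCoh (rowHom l).1 ∧ Nonempty ((rowHom l).1 ≅ FlatMod.freeMod X l.length) ∧
    (∀ x, toFn ((rowHom l).2.app ⊤ x) ∈ Ideal.span {f | f ∈ l}) ∧
    ∀ {N : X.Modules} (ψ : Coh.structureModule X ⟶ N), (rowHom l).2 ≫ ψ = 0 →
      ∀ f ∈ l, mulHom f ≫ ψ = 0 := by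
  induction l with
  | nil =>
    have hz : IsZero (rowHom ([] : List Γ(X, ⊤))).1 := isZero_zero _
    refine ⟨isQCoh_of_isZero hz, ⟨hz.iso ((IsZero.iff_id_eq_zero _).2 (Sigma.hom_ext _ _ fun i => i.elim0))⟩, fun x => ?_, by simp⟩
    · exact zero_mem _
  | cons f l ih =>
    obtain ⟨hq, hs, hr, he⟩ := ih
    refine ⟨isQCoh_X₂ (ShortComplex.Splitting.ofHasBinaryBiproduct (Coh.structureModule X)
      (rowHom l).1).shortExact isQCoh_structureModule hq, ?_, fun x => ?_, fun ψ hψ g hg => ?_⟩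
    · exact hs.map fun e => consIso e
    · rw [show (rowHom (f :: l)).2 = biprod.fst ≫ mulHom f + biprod.snd ≫ (rowHom l).2 from
        biprod.desc_eq]
      show toFn ((mulHom f).app ⊤ ((biprod.fst : _ ⟶ Coh.structureModule X).app ⊤ x)) +
        toFn ((rowHom l).2.app ⊤ ((biprod.snd : _ ⟶ (rowHom l).1).app ⊤ x)) ∈ _
      refine add_mem ?_ (Ideal.span_mono (fun _ hg => List.mem_cons_of_mem f hg) (hr _))
      rw [mulHom_app]
      refine Ideal.mul_mem_left _ _ (Ideal.subset_span ?_)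
      rw [Subsingleton.elim (homOfLE (le_top : (⊤ : X.Opens) ≤ ⊤)).op (𝟙 _), X.presheaf.map_id]
      exact List.mem_cons_self
    · rcases List.mem_cons.1 hg with rfl | hg
      · have hψ' : biprod.desc (mulHom g) (rowHom l).2 ≫ ψ = 0 := hψ
        simpa using (biprod.inl : Coh.structureModule X ⟶ _ ⊞ (rowHom l).1) ≫= hψ'
      · refine he ψ ?_ g hg
        have hψ' : biprod.desc (mulHom f) (rowHom l).2 ≫ ψ = 0 := hψ
        simpa using (biprod.inr : (rowHom l).1 ⟶ Coh.structureModule X ⊞ _) ≫= hψ'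

theorem isAffine_of_surjSub [CompactSpace X] (h : SurjSub X) : IsAffine X := by
  have hcov : ∀ y : X, ∃ f : Γ(X, ⊤), y ∈ X.basicOpen f ∧ IsAffineOpen (X.basicOpen f) := fun y => by
    obtain ⟨z, hz, hzc⟩ := IsClosed.exists_closed_singleton (isClosed_closure (s := ({y} : Set X)))
      ⟨y, subset_closure rfl⟩
    obtain ⟨f, hzf, hf⟩ := exists_basicOpen_affine' h hzc
    exact ⟨f, (specializes_iff_mem_closure.2 hz).mem_open (X.basicOpen f).isOpen hzf, hf⟩
  choose f hyf hf using hcov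
  obtain ⟨t, ht⟩ := isCompact_univ.elim_finite_subcover (fun y => (X.basicOpen (f y) : Set X))
    (fun y => (X.basicOpen (f y)).isOpen) fun y _ => Set.mem_iUnion.2 ⟨y, hyf y⟩
  let l : List Γ(X, ⊤) := t.toList.map f
  obtain ⟨hq, ⟨ε⟩, hr, he⟩ := rowHom_props' l
  let φ := (rowHom l).2
  have : Epi φ := Preadditive.epi_of_cancel_zero _ fun {N} ψ hψ => by
    apply N.unitHomEquiv.injective
    refine Subtype.ext (funext fun V => ?_)
    refine (eq_zero_of_locally (M := N) V.unop _ fun p hp => ?_).trans ?_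
    pick_goal 2
    · exact (rfl : (0 : Γ(N, V.unop)) = _)
    obtain ⟨y, hy, hpy⟩ := Set.mem_iUnion₂.1 (ht (Set.mem_univ p))
    let W : X.Opens := V.unop ⊓ X.basicOpen (f y)
    refine ⟨W, homOfLE inf_le_left, ⟨hp, hpy⟩, ?_⟩
    have h0 : mulHom (f y) ≫ ψ = 0 := he ψ hψ _ (List.mem_map.2 ⟨y, Finset.mem_toList.2 hy, rfl⟩)
    have hu : IsUnit (X.presheaf.map (homOfLE (le_top : W ≤ ⊤)).op (f y)) := by
      have hu : IsUnit (X.presheaf.map (homOfLE (le_top : X.basicOpen (f y) ≤ ⊤)).op (f y)) :=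
        RingedSpace.isUnit_res_basicOpen X.toRingedSpace (f y)
      have := hu.map (X.presheaf.map (homOfLE (inf_le_right : W ≤ X.basicOpen (f y))).op).hom
      rwa [← ConcreteCategory.comp_apply, ← X.presheaf.map_comp] at this
    obtain ⟨v, hv⟩ := hu
    have h1 := congrArg (fun χ : Coh.structureModule X ⟶ N =>
      χ.app W (show Γ(Coh.structureModule X, W) from ((v⁻¹ : Γ(X, W)ˣ) : Γ(X, W)))) h0
    show N.presheaf.map _ (ψ.app V.unop (show Γ(Coh.structureModule X, V.unop) from (1 : Γ(X, V.unop)))) = 0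
    rw [← map_app_comm]
    refine Eq.trans (congrArg (ψ.app W) ?_) (h1.trans rfl)
    show X.presheaf.map _ (1 : Γ(X, V.unop)) = ((v⁻¹ : Γ(X, W)ˣ) : Γ(X, W)) * _
    rw [map_one, ← hv, Units.inv_mul]
  obtain ⟨x, hx⟩ := surjSub_apply h φ ε.hom hq isQCoh_structureModule
    (show Γ(Coh.structureModule X, ⊤) from (1 : Γ(X, ⊤)))
  have h1 := hr x
  rw [show (rowHom l).2.app ⊤ x = _ from hx] at h1
  refine isAffine_of_isAffineOpen_basicOpen {g | g ∈ l} ((Ideal.eq_top_iff_one _).2 h1) ?_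
  rintro g hg
  obtain ⟨y, -, rfl⟩ := List.mem_map.1 hg
  exact hf y

end Groth.Agent.CohBasic
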