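import Groth.Agent.QCoh.CechBC
import Mathlib.RingTheory.Flat.TorsionFree
import Mathlib.RingTheory.Flat.Equalizer

/-!
# Base change of cohomology of a torsion-free complex over the integers
-/

set_option linter.style.haveILetI false
set_option backward.isDefEq.respectTransparency false
set_option backward.isDefEq.respectTransparency.types false
set_option autoImplicit false

universe u

open CategoryTheory CategoryTheory.Limits Opposite
open scoped TensorProduct

namespace Groth.Agent.CohBasic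

/-- The base ring. -/
abbrev Zu : Type u := ULift.{u} ℤ

instance : IsBezout Zu.{u} :=
  haveI : IsPrincipalIdealRing Zu.{u} := IsPrincipalIdealRing.of_surjective
    (ULift.ringEquiv (R := ℤ)).symm.toRingHom (ULift.ringEquiv (R := ℤ)).symm.surjective
  inferInstance

instance : IsDomain Zu.{u} := MulEquiv.isDomain ℤ (ULift.ringEquiv (R := ℤ)).toMulEquiv

variable {Z : Type u} [CommRing Z] [IsDomain Z] [IsBezout Z]

theorem flat_of_tf (M : Type u) [AddCommGroup M] [Module Z M]
    (h : ∀ (a : Z) (m : M), a • m = 0 → a = 0 ∨ m = 0) : Module.Flat Z M := by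
  rw [Module.Flat.flat_iff_torsion_eq_bot_of_isBezout, eq_bot_iff]
  intro m hm
  obtain ⟨a, ha⟩ := (Submodule.mem_torsion_iff m).1 hm
  exact (h a.1 m (by rw [← Submonoid.smul_def]; exact ha)).resolve_left (nonZeroDivisors.ne_zero a.2)

/-- If the cohomology in degree `p + 1` of a torsion-free complex is torsion-free, the vanishing of the
cohomology in degree `p + 1`'s predecessor persists after any base change. -/
theorem exact_bc {B : Type u} [CommRing B] [Algebra Z B] {C₀ C₁ C₂ C₃ : Type u}
    [AddCommGroup C₀] [AddCommGroup C₁] [AddCommGroup C₂] [AddCommGroup C₃]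
    [Module Z C₀] [Module Z C₁] [Module Z C₂] [Module Z C₃]
    (h₂ : ∀ (a : Z) (m : C₂), a • m = 0 → a = 0 ∨ m = 0)
    (h₃ : ∀ (a : Z) (m : C₃), a • m = 0 → a = 0 ∨ m = 0)
    (d₀ : C₀ →ₗ[Z] C₁) (d₁ : C₁ →ₗ[Z] C₂) (d₂ : C₂ →ₗ[Z] C₃) (h21 : d₂.comp d₁ = 0)
    (hex : Function.Exact d₀ d₁)
    (hH : ∀ (a : Z) (m : C₂), d₂ m = 0 → a • m ∈ LinearMap.range d₁ → a = 0 ∨ m ∈ LinearMap.range d₁) :
    Function.Exact (d₀.baseChange B) (d₁.baseChange B) := by
  let R₁ := LinearMap.range d₁
  haveI : Module.Flat Z (C₂ ⧸ R₁) := flat_of_tf _ fun a m hm => by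
    obtain ⟨m, rfl⟩ := Submodule.Quotient.mk_surjective _ m
    rw [← Submodule.Quotient.mk_smul, Submodule.Quotient.mk_eq_zero] at hm
    rcases eq_or_ne a 0 with ha | ha
    · exact Or.inl ha
    refine Or.inr ((Submodule.Quotient.mk_eq_zero _).2 ?_)
    obtain ⟨x, hx⟩ := hm
    have : a • d₂ m = 0 := by
      rw [← map_smul, ← hx]
      exact LinearMap.congr_fun h21 x
    exact (hH a m ((h₃ a _ this).resolve_left ha) ⟨x, hx⟩).resolve_left ha
  have hinj : Function.Injective (R₁.subtype.baseChange B) :=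
    LinearMap.lTensor_injective_of_exact_of_flat R₁.mkQ (Submodule.mkQ_surjective R₁) R₁.subtype
      R₁.injective_subtype (LinearMap.exact_subtype_mkQ R₁) B
  have h1 : Function.Exact (d₀.baseChange B) (d₁.rangeRestrict.baseChange B) :=
    lTensor_exact B (fun x => (by simpa [Subtype.ext_iff] using hex x)) (LinearMap.surjective_rangeRestrict d₁)
  intro x
  rw [← h1 x]
  refine ⟨fun hx => hinj ?_, fun hx => ?_⟩
  · rw [map_zero, ← hx, ← LinearMap.comp_apply, ← LinearMap.baseChange_comp]
    rfl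
  · show (d₁.baseChange B) x = 0
    have : d₁ = R₁.subtype.comp d₁.rangeRestrict := rfl
    rw [this, LinearMap.baseChange_comp, LinearMap.comp_apply, hx, map_zero]

/-- Vanishing of cohomology passes to a base change of a torsion-free complex. -/
theorem isZero_homology_bc {B : Type u} [CommRing B] (φ : Z →+* B)
    (C : CochainComplex (ModuleCat.{u} Z) ℕ) (p : ℕ)
    (htf : ∀ (i : ℕ) (a : Z) (m : C.X i), a • m = 0 → a = 0 ∨ m = 0)
    (h0 : IsZero (C.homology p))
    (h1 : ∀ (a : Z) (m : C.homology (p + 1)), a • m = 0 → a = 0 ∨ m = 0) :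
    IsZero ((CohIII.bcCx φ C).homology p) := by
  rw [← HomologicalComplex.exactAt_iff_isZero_homology] at h0 ⊢
  rw [HomologicalComplex.exactAt_iff' _ ((ComplexShape.up ℕ).prev p) p (p + 1) rfl (CochainComplex.next _ p),
    ShortComplex.ShortExact.moduleCat_exact_iff_function_exact] at h0 ⊢
  letI := φ.toAlgebra
  refine exact_bc (B := B) (htf (p + 1)) (htf (p + 2)) (C.d _ p).hom (C.d p (p + 1)).hom
    (C.d (p + 1) (p + 2)).hom (congrArg ModuleCat.Hom.hom (C.d_comp_d p (p + 1) (p + 2))) h0 fun a m hm hr => ?_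
  rcases eq_or_ne a 0 with ha | ha
  · exact Or.inl ha
  refine Or.inr ?_
  let S := C.sc' p (p + 1) (p + 2)
  let e := (C.homologyIsoSc' p (p + 1) (p + 2) (CochainComplex.prev_nat_succ p) (CochainComplex.next _ _)) ≪≫
    S.moduleCatHomologyIso
  let z : LinearMap.ker (C.d (p + 1) (p + 2)).hom := ⟨m, hm⟩
  have hz : a • (Submodule.Quotient.mk z : S.moduleCatLeftHomologyData.H) = 0 := by
    rw [← Submodule.Quotient.mk_smul, Submodule.Quotient.mk_eq_zero]
    obtain ⟨x, hx⟩ := hr
    exact ⟨x, Subtype.ext hx⟩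
  have h' := (h1 a (e.inv (Submodule.Quotient.mk z : S.moduleCatLeftHomologyData.H))
    (by rw [← map_smul, hz, map_zero])).resolve_left ha
  have : (Submodule.Quotient.mk z : S.moduleCatLeftHomologyData.H) = 0 := by
    have := congrArg e.hom h'
    rwa [map_zero, Iso.inv_hom_id_apply] at this
  obtain ⟨x, hx⟩ := (Submodule.Quotient.mk_eq_zero _).1 this
  exact ⟨x, congrArg Subtype.val hx⟩

end Groth.Agent.CohBasic
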